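import Cfsg.Agent.Co3TwoM12.Cert.CoA.CoverDefs

/-! Generated by tools/dcoset/emit.py: forests and chains. -/

set_option Elab.async false
set_option maxRecDepth 100000

namespace Cfsg.Agent.Co3TwoM12.Cert.CoA

open Cfsg.Agent.DCoset Cfsg.Agent.CosetCert

theorem point_45 : allFrom (Cover.checkPoint cover steps rules tab 45) 0 495 = true := by
  decide +kernel

theorem gen_45 : allFrom (fun l => allFrom (QModel.checkGen tab (chainOf 45) l) 0 ((chainOf 45).nGen l)) 0 7 = true := by
  decide +kernel

theorem pt_45 : allFrom (fun l => allFrom (QModel.checkPt tab (chainOf 45) l) 0 ((chainOf 45).size l)) 0 7 = true := by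
  decide +kernel

theorem point_46 : allFrom (Cover.checkPoint cover steps rules tab 46) 0 495 = true := by
  decide +kernel

theorem gen_46 : allFrom (fun l => allFrom (QModel.checkGen tab (chainOf 46) l) 0 ((chainOf 46).nGen l)) 0 7 = true := by
  decide +kernel

theorem pt_46 : allFrom (fun l => allFrom (QModel.checkPt tab (chainOf 46) l) 0 ((chainOf 46).size l)) 0 7 = true := by
  decide +kernel

theorem point_47 : allFrom (Cover.checkPoint cover steps rules tab 47) 0 495 = true := by
  decide +kernel

theorem gen_47 : allFrom (fun l => allFrom (QModel.checkGen tab (chainOf 47) l) 0 ((chainOf 47).nGen l)) 0 7 = true := by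
  decide +kernel

theorem pt_47 : allFrom (fun l => allFrom (QModel.checkPt tab (chainOf 47) l) 0 ((chainOf 47).size l)) 0 7 = true := by
  decide +kernel


end Cfsg.Agent.Co3TwoM12.Cert.CoA
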