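import Cfsg.Agent.Co3TwoM12.Cert.CoA.StepDefs

/-! Generated by tools/dcoset/emit.py: steps are justified. -/

set_option Elab.async false
set_option maxRecDepth 100000

namespace Cfsg.Agent.Co3TwoM12.Cert.CoA

open Cfsg.Agent.DCoset Cfsg.Agent.CosetCert

theorem steps_160 : allFrom (Steps.check steps rules tab) 40000 250 = true := by
  decide +kernel

theorem steps_161 : allFrom (Steps.check steps rules tab) 40250 250 = true := by
  decide +kernel

theorem steps_162 : allFrom (Steps.check steps rules tab) 40500 250 = true := by
  decide +kernel

theorem steps_163 : allFrom (Steps.check steps rules tab) 40750 250 = true := by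
  decide +kernel

theorem steps_164 : allFrom (Steps.check steps rules tab) 41000 250 = true := by
  decide +kernel

theorem steps_165 : allFrom (Steps.check steps rules tab) 41250 250 = true := by
  decide +kernel

theorem steps_166 : allFrom (Steps.check steps rules tab) 41500 250 = true := by
  decide +kernel

theorem steps_167 : allFrom (Steps.check steps rules tab) 41750 250 = true := by
  decide +kernel


end Cfsg.Agent.Co3TwoM12.Cert.CoA
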