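import Cfsg.Agent.Co3TwoM12.Cert.CoA.StepDefs

/-! Generated by tools/dcoset/emit.py: steps are justified. -/

set_option Elab.async false
set_option maxRecDepth 100000

namespace Cfsg.Agent.Co3TwoM12.Cert.CoA

open Cfsg.Agent.DCoset Cfsg.Agent.CosetCert

theorem steps_232 : allFrom (Steps.check steps rules tab) 58000 250 = true := by
  decide +kernel

theorem steps_233 : allFrom (Steps.check steps rules tab) 58250 250 = true := by
  decide +kernel

theorem steps_234 : allFrom (Steps.check steps rules tab) 58500 250 = true := by
  decide +kernel

theorem steps_235 : allFrom (Steps.check steps rules tab) 58750 250 = true := by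
  decide +kernel

theorem steps_236 : allFrom (Steps.check steps rules tab) 59000 250 = true := by
  decide +kernel

theorem steps_237 : allFrom (Steps.check steps rules tab) 59250 250 = true := by
  decide +kernel

theorem steps_238 : allFrom (Steps.check steps rules tab) 59500 250 = true := by
  decide +kernel

theorem steps_239 : allFrom (Steps.check steps rules tab) 59750 250 = true := by
  decide +kernel


end Cfsg.Agent.Co3TwoM12.Cert.CoA
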