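import Cfsg.Agent.Co3TwoM12.Cert.CoA.StepDefs

/-! Generated by tools/dcoset/emit.py: steps are justified. -/

set_option Elab.async false
set_option maxRecDepth 100000

namespace Cfsg.Agent.Co3TwoM12.Cert.CoA

open Cfsg.Agent.DCoset Cfsg.Agent.CosetCert

theorem steps_304 : allFrom (Steps.check steps rules tab) 76000 250 = true := by
  decide +kernel

theorem steps_305 : allFrom (Steps.check steps rules tab) 76250 250 = true := by
  decide +kernel

theorem steps_306 : allFrom (Steps.check steps rules tab) 76500 250 = true := by
  decide +kernel

theorem steps_307 : allFrom (Steps.check steps rules tab) 76750 250 = true := by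
  decide +kernel

theorem steps_308 : allFrom (Steps.check steps rules tab) 77000 250 = true := by
  decide +kernel

theorem steps_309 : allFrom (Steps.check steps rules tab) 77250 250 = true := by
  decide +kernel

theorem steps_310 : allFrom (Steps.check steps rules tab) 77500 250 = true := by
  decide +kernel

theorem steps_311 : allFrom (Steps.check steps rules tab) 77750 250 = true := by
  decide +kernel


end Cfsg.Agent.Co3TwoM12.Cert.CoA
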