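import Cfsg.Agent.Co3TwoM12.Cert.CoA.StepDefs

/-! Generated by tools/dcoset/emit.py: steps are justified. -/

set_option Elab.async false
set_option maxRecDepth 100000

namespace Cfsg.Agent.Co3TwoM12.Cert.CoA

open Cfsg.Agent.DCoset Cfsg.Agent.CosetCert

theorem steps_0 : allFrom (Steps.check steps rules tab) 0 250 = true := by
  decide +kernel

theorem steps_1 : allFrom (Steps.check steps rules tab) 250 250 = true := by
  decide +kernel

theorem steps_2 : allFrom (Steps.check steps rules tab) 500 250 = true := by
  decide +kernel

theorem steps_3 : allFrom (Steps.check steps rules tab) 750 250 = true := by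
  decide +kernel

theorem steps_4 : allFrom (Steps.check steps rules tab) 1000 250 = true := by
  decide +kernel

theorem steps_5 : allFrom (Steps.check steps rules tab) 1250 250 = true := by
  decide +kernel

theorem steps_6 : allFrom (Steps.check steps rules tab) 1500 250 = true := by
  decide +kernel

theorem steps_7 : allFrom (Steps.check steps rules tab) 1750 250 = true := by
  decide +kernel


end Cfsg.Agent.Co3TwoM12.Cert.CoA
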