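import Cfsg.Agent.Co3TwoM12.Cert.CoA.StepData0
import Cfsg.Agent.Co3TwoM12.Cert.CoA.StepData1
import Cfsg.Agent.Co3TwoM12.Cert.CoA.StepData2
import Cfsg.Agent.Co3TwoM12.Cert.CoA.StepData3

/-! Generated by tools/dcoset/emit.py: the derivation. -/

set_option Elab.async false

namespace Cfsg.Agent.Co3TwoM12.Cert.CoA

open Cfsg.Agent.DCoset Cfsg.Agent.CosetCert

/-- The derivation. -/
noncomputable def steps : Steps where
  nNode := 231
  nodeSrc := nodeSrc
  nodeW := nodeWS.get
  nodeT := nodeT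
  len := 97163
  kind := kind
  argA := argA
  argB := argB
  argW := argWS.get
  fI := fI
  fH := getN 112 fHS
  fT := fT
  fJ := fJ
  fK := getN 112 fKS

end Cfsg.Agent.Co3TwoM12.Cert.CoA
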