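import Cfsg.Agent.Co3TwoM12.Cert.Model

/-! The permutation table of the certificate. -/

namespace Cfsg.Agent.Co3TwoM12.Cert.CoA

open Cfsg.Agent.DCoset

/-- The table of the letters. -/
noncomputable abbrev tab : Tab := Cert.tab

theorem tab_act_lt (g p : Nat) : tab.act g p < 65536 := Cert.acts.act_lt g p

end Cfsg.Agent.Co3TwoM12.Cert.CoA
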